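import Mathlib

/-!
Automorphisms of `2`-power order of a finite field generate comparable cyclic groups.
-/

set_option autoImplicit false

namespace Cfsg.Agent.Omega.NO3S.ThmB.End.AutTwo

/-- In a finite cyclic group, an element whose order divides the order of another one is a power of
it. -/
theorem mem_zpowers {G : Type*} [Group G] [Finite G] [IsCyclic G] {a b : G}
    (h : orderOf a ∣ orderOf b) : a ∈ Subgroup.zpowers b := by
  classical
  have : Fintype G := Fintype.ofFinite G
  have h1 : (Finset.univ.filter fun x : G => x ^ orderOf b = 1).card ≤ orderOf b :=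
    IsCyclic.card_pow_eq_one_le (orderOf_pos b)
  have h2 : (Subgroup.zpowers b : Set G).toFinset ⊆ Finset.univ.filter fun x : G => x ^ orderOf b = 1 := by
    intro x hx
    rw [Set.mem_toFinset] at hx
    obtain ⟨k, rfl⟩ := hx
    simp only [Finset.mem_filter, Finset.mem_univ, true_and]
    rw [← zpow_natCast, ← zpow_mul, mul_comm, zpow_mul, zpow_natCast, pow_orderOf_eq_one, one_zpow]
  have h3 : (Subgroup.zpowers b : Set G).toFinset.card = orderOf b := by
    rw [Set.toFinset_card]
    exact Fintype.card_zpowers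
  have h4 := Finset.eq_of_subset_of_card_le h2 (by rw [h3]; exact h1)
  have h5 : a ∈ Finset.univ.filter fun x : G => x ^ orderOf b = 1 := by
    simp only [Finset.mem_filter, Finset.mem_univ, true_and]
    exact orderOf_dvd_iff_pow_eq_one.1 h
  rw [← h4, Set.mem_toFinset] at h5
  exact h5

/-- The automorphism group of a finite field is cyclic. -/
theorem isCyclic_ringAut (F : Type*) [Field F] [Finite F] : IsCyclic (RingAut F) := by
  obtain ⟨p, hp⟩ := CharP.exists F
  have : Fact p.Prime := ⟨CharP.char_is_prime F p⟩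
  let _ := ZMod.algebra F p
  have h1 : IsCyclic (F ≃ₐ[ZMod p] F) := inferInstance
  refine isCyclic_of_surjective
    ({ toFun := fun f => f.toRingEquiv, map_one' := rfl, map_mul' := fun _ _ => rfl } :
      (F ≃ₐ[ZMod p] F) →* RingAut F) ?_
  intro s
  refine ⟨AlgEquiv.ofRingEquiv (f := s) (fun x => ?_), ?_⟩
  · have h2 : (s : F →+* F).comp (algebraMap (ZMod p) F) = algebraMap (ZMod p) F :=
      Subsingleton.elim _ _
    exact RingHom.congr_fun h2 x
  · ext x
    rfl

/-- Automorphisms of `2`-power order of a finite field are comparable. -/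
theorem mem_or_mem {F : Type*} [Field F] [Finite F] {s t : RingAut F} {a b : ℕ}
    (hs : orderOf s = 2 ^ a) (ht : orderOf t = 2 ^ b) :
    s ∈ Subgroup.zpowers t ∨ t ∈ Subgroup.zpowers s := by
  have := isCyclic_ringAut F
  have : Finite (RingAut F) := Finite.of_injective (fun f : RingAut F => (f : F → F))
    (fun f g h => RingEquiv.ext (congrFun h))
  rcases le_total a b with h | h
  · exact Or.inl (mem_zpowers (by rw [hs, ht]; exact pow_dvd_pow 2 h))
  · exact Or.inr (mem_zpowers (by rw [hs, ht]; exact pow_dvd_pow 2 h))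

/-- Automorphisms of a finite field which generate `2`-groups are comparable. -/
theorem mem_or_mem' {F : Type*} [Field F] [Finite F] {s t : RingAut F}
    (hs : ∃ a : ℕ, s ^ 2 ^ a = 1) (ht : ∃ b : ℕ, t ^ 2 ^ b = 1) :
    s ∈ Subgroup.zpowers t ∨ t ∈ Subgroup.zpowers s := by
  obtain ⟨a, ha⟩ := hs
  obtain ⟨b, hb⟩ := ht
  obtain ⟨a', -, ha'⟩ := (Nat.dvd_prime_pow Nat.prime_two).1 (orderOf_dvd_of_pow_eq_one ha)
  obtain ⟨b', -, hb'⟩ := (Nat.dvd_prime_pow Nat.prime_two).1 (orderOf_dvd_of_pow_eq_one hb)
  exact mem_or_mem ha' hb'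

end Cfsg.Agent.Omega.NO3S.ThmB.End.AutTwo
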