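import Mathlib.Algebra.CharP.Lemmas
import Mathlib.Algebra.Field.Basic
import Mathlib.Algebra.Ring.Equiv
import Mathlib.Algebra.CharP.Reduced
import Mathlib.Tactic.FieldSimp
import Mathlib.Tactic.Ring

/-!
# THEOREM B, end, (L6): autotopisms of a field

`h (b y) = f b * g y` with `h` bijective: `h = h 1 · σ`, `f = f 1 · σ`, `g = g 1 · σ` for a ring automorphism `σ`.
-/

set_option autoImplicit false

namespace Cfsg.Agent.Omega.NO3S.ThmB.End.Auto

variable {F : Type*} [Field F] {h f g : F →+ F}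

theorem h_one (H : ∀ b y, h (b * y) = f b * g y) : h 1 = f 1 * g 1 := by rw [← H, mul_one]

theorem h_one_ne (hb : Function.Bijective h) : h 1 ≠ 0 := fun h0 =>
  one_ne_zero (hb.1 (h0.trans (map_zero h).symm))

theorem f_one_ne (hb : Function.Bijective h) (H : ∀ b y, h (b * y) = f b * g y) : f 1 ≠ 0 := fun h0 =>
  h_one_ne hb (by rw [h_one H, h0, zero_mul])

theorem g_one_ne (hb : Function.Bijective h) (H : ∀ b y, h (b * y) = f b * g y) : g 1 ≠ 0 := fun h0 =>
  h_one_ne hb (by rw [h_one H, h0, mul_zero])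

/-- the ring automorphism as a homomorphism -/
def sigHom (hb : Function.Bijective h) (H : ∀ b y, h (b * y) = f b * g y) : F →+* F where
  toFun x := (h 1)⁻¹ * h x
  map_one' := inv_mul_cancel₀ (h_one_ne hb)
  map_zero' := by rw [map_zero, mul_zero]
  map_add' x y := by rw [map_add, mul_add]
  map_mul' x y := by
    have hf := f_one_ne hb H
    have hg := g_one_ne hb H
    have h1 : h x = f x * g 1 := by rw [← H, mul_one]
    have h2 : h y = f 1 * g y := by rw [← H, one_mul]
    rw [H x y, h1, h2, h_one H]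
    field_simp

theorem sigHom_bij (hb : Function.Bijective h) (H : ∀ b y, h (b * y) = f b * g y) :
    Function.Bijective (sigHom hb H) := by
  refine ⟨fun x y hxy => hb.1 ?_, fun y => ?_⟩
  · exact mul_left_cancel₀ (inv_ne_zero (h_one_ne hb)) hxy
  · obtain ⟨x, hx⟩ := hb.2 (h 1 * y)
    refine ⟨x, ?_⟩
    change (h 1)⁻¹ * h x = y
    rw [hx, inv_mul_cancel_left₀ (h_one_ne hb)]

/-- the ring automorphism -/
noncomputable def sig (hb : Function.Bijective h) (H : ∀ b y, h (b * y) = f b * g y) : F ≃+* F :=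
  RingEquiv.ofBijective (sigHom hb H) (sigHom_bij hb H)

theorem h_eq (hb : Function.Bijective h) (H : ∀ b y, h (b * y) = f b * g y) (x : F) : h x = h 1 * sig hb H x := by
  change h x = h 1 * ((h 1)⁻¹ * h x)
  rw [mul_inv_cancel_left₀ (h_one_ne hb)]

theorem f_eq (hb : Function.Bijective h) (H : ∀ b y, h (b * y) = f b * g y) (x : F) : f x = f 1 * sig hb H x := by
  have h1 : h x = f x * g 1 := by rw [← H, mul_one]
  have h2 := h_eq hb H x
  rw [h1, h_one H] at h2
  have h3 : f x * g 1 = f 1 * sig hb H x * g 1 := by rw [h2]; ring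
  exact mul_right_cancel₀ (g_one_ne hb H) h3

theorem g_eq (hb : Function.Bijective h) (H : ∀ b y, h (b * y) = f b * g y) (x : F) : g x = g 1 * sig hb H x := by
  have h1 : h x = f 1 * g x := by rw [← H, one_mul]
  have h2 := h_eq hb H x
  rw [h1, h_one H] at h2
  have h3 : f 1 * g x = f 1 * (g 1 * sig hb H x) := by rw [h2]; ring
  exact mul_left_cancel₀ (f_one_ne hb H) h3

/-- **(L6).** -/
theorem autotopism (hb : Function.Bijective h) (H : ∀ b y, h (b * y) = f b * g y) :
    h 1 ≠ 0 ∧ f 1 ≠ 0 ∧ g 1 ≠ 0 ∧ ∃ σ : F ≃+* F, (∀ x, h x = h 1 * σ x) ∧ (∀ x, f x = f 1 * σ x) ∧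
      ∀ x, g x = g 1 * σ x :=
  ⟨h_one_ne hb, f_one_ne hb H, g_one_ne hb H, sig hb H, h_eq hb H, f_eq hb H, g_eq hb H⟩

/-- if `h = id`, then `σ = 1` and `f`, `g` are multiplications by inverse scalars -/
theorem of_id (H : ∀ b y, h (b * y) = f b * g y) (hid : ∀ x, h x = x) :
    f 1 * g 1 = 1 ∧ (∀ x, f x = f 1 * x) ∧ ∀ x, g x = g 1 * x := by
  have hb : Function.Bijective h := by
    have : (h : F → F) = id := funext hid
    rw [this]
    exact Function.bijective_id
  have h1 : ∀ x, sig hb H x = x := fun x => by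
    have h2 := h_eq hb H x
    rw [hid, hid, one_mul] at h2
    exact h2.symm
  refine ⟨by rw [← h_one H, hid], fun x => ?_, fun x => ?_⟩
  · have h2 := f_eq hb H x
    rwa [h1] at h2
  · have h2 := g_eq hb H x
    rwa [h1] at h2

/-- no element of 2-power order in a field of characteristic 2 -/
theorem eq_one_of_pow [CharP F 2] {c : F} {n : ℕ} (h : c ^ 2 ^ n = 1) : c = 1 := by
  have : Fact (Nat.Prime 2) := ⟨Nat.prime_two⟩
  have h1 : (c - 1) ^ 2 ^ n = 0 := by rw [sub_pow_char_pow, one_pow, h, sub_self]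
  exact sub_eq_zero.1 (pow_eq_zero_iff (pow_ne_zero _ two_ne_zero) |>.1 h1)

/-- iterates of `x ↦ c * x` -/
theorem iterate_mul (c : F) {f : F → F} (hf : ∀ x, f x = c * x) (n : ℕ) (x : F) : f^[n] x = c ^ n * x := by
  induction n generalizing x with
  | zero => simp
  | succ n ih => rw [Function.iterate_succ_apply, ih, hf, pow_succ]; ring

/-- a multiplication of 2-power order is trivial in characteristic 2 -/
theorem eq_id_of_iterate [CharP F 2] (c : F) {f : F → F} (hf : ∀ x, f x = c * x) {n : ℕ}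
    (h : ∀ x, f^[2 ^ n] x = x) (x : F) : f x = x := by
  have h1 := h 1
  rw [iterate_mul c hf, mul_one] at h1
  rw [hf, eq_one_of_pow h1, one_mul]

end Cfsg.Agent.Omega.NO3S.ThmB.End.Auto
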