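import Cfsg.Agent.Omega.NO3S.ThmB.End.Idx
import Cfsg.Agent.Omega.FFThm

/-!
# THEOREM B, end, (L3): subgroups of 2-power index, natural case

`W / D` natural for `SL₂(F)^k`, `P = S H`, `S` Sylow in `P`: if `SL₂(F)` has no proper subgroup of 2-power index,
then `H` induces all of `SL₂(F)` on every summand, and `S ∩ H` all upper unitriangular matrices.
-/

set_option autoImplicit false

namespace Cfsg.Agent.Omega.NO3S.ThmB.End.NatIdx

open Subgroup Cfsg Cfsg.Agent.ZN Cfsg.Agent.ZN.ChoiceBase Cfsg.Agent.ZN.ChoiceSit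
open Cfsg.Agent.Omega.FFThm Cfsg.Agent.Omega.NO3S.ThmB.End.Idx
open Cfsg.Agent.Omega.NatPair (ap ap_mul ap_one ap_inv_ap ap_ap_inv ap_inj)
open Cfsg.Agent.Lib.SL2Mat

universe u

variable {G : Type u} [Group G] {F : Type} [Field F] {S P W D : Subgroup G} {k : ℕ}

section acts

variable {e : G → Fin k → Fin 2 → F}

theorem acts_mul (hW : P ≤ normalizer (W : Set G)) {g g' : G} (hg' : g' ∈ P)
    {A B : Fin k → Matrix.SpecialLinearGroup (Fin 2) F} (hA : ActsSL e W D g A) (hB : ActsSL e W D g' B) :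
    ActsSL e W D (g * g') (A * B) := by
  refine ⟨fun v hv i => ?_, fun d hd => ?_⟩
  · have h1 : g * g' * v * (g * g')⁻¹ = g * (g' * v * g'⁻¹) * g⁻¹ := by group
    have h2 : g' * v * g'⁻¹ ∈ W := (mem_normalizer_iff.1 (hW hg') v).1 hv
    rw [h1, hA.1 _ h2, hB.1 _ hv, Pi.mul_apply, ap_mul]
  · rw [mul_assoc, hB.2 d hd, ← mul_assoc, hA.2 d hd, mul_assoc]

theorem acts_one : ActsSL e W D 1 1 := by
  refine ⟨fun v _ i => ?_, fun d _ => by rw [one_mul, mul_one]⟩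
  rw [one_mul, inv_one, mul_one, Pi.one_apply, ap_one]

theorem acts_inv (hW : P ≤ normalizer (W : Set G)) {g : G} (hg : g ∈ P)
    {A : Fin k → Matrix.SpecialLinearGroup (Fin 2) F} (hA : ActsSL e W D g A) : ActsSL e W D g⁻¹ A⁻¹ := by
  refine ⟨fun v hv i => ?_, fun d hd => ?_⟩
  · have h2 : g⁻¹ * v * g⁻¹⁻¹ ∈ W := (mem_normalizer_iff.1 (hW (inv_mem hg)) v).1 hv
    have h3 := hA.1 _ h2 i
    have h4 : g * (g⁻¹ * v * g⁻¹⁻¹) * g⁻¹ = v := by group
    rw [h4] at h3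
    rw [h3, Pi.inv_apply, ap_inv_ap]
  · have h3 := hA.2 d hd
    have h4 := congrArg (fun t => g⁻¹ * t * g⁻¹) h3
    simpa [mul_assoc] using h4.symm

end acts

variable (h : NatK F S P W D k)

include h

theorem acts_uniq {g : G} {A B : Fin k → Matrix.SpecialLinearGroup (Fin 2) F} (hA : ActsSL h.e W D g A)
    (hB : ActsSL h.e W D g B) : A = B := by
  funext i
  refine ap_inj fun x => ?_
  obtain ⟨v, hv, e⟩ := h.surj fun _ => x
  have h1 := hA.1 v hv i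
  rw [hB.1 v hv i, e] at h1
  exact h1.symm

/-- the subgroup of the elements which act as elements of `SL₂(F)^k` -/
def E (hW : P ≤ normalizer (W : Set G)) : Subgroup G where
  carrier := {g | g ∈ P ∧ ∃ A, ActsSL h.e W D g A}
  mul_mem' := by
    rintro a b ⟨ha, A, hA⟩ ⟨hb, B, hB⟩
    exact ⟨mul_mem ha hb, _, acts_mul hW hb hA hB⟩
  one_mem' := ⟨one_mem _, _, acts_one⟩
  inv_mem' := by
    rintro a ⟨ha, A, hA⟩
    exact ⟨inv_mem ha, _, acts_inv hW ha hA⟩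

/-- the graph of the action on the `i`-th summand -/
def R (hW : P ≤ normalizer (W : Set G)) (i : Fin k) : Subgroup (G × Matrix.SpecialLinearGroup (Fin 2) F) where
  carrier := {p | p.1 ∈ P ∧ ActsSL h.e W D p.1 (Pi.mulSingle i p.2)}
  mul_mem' := by
    rintro ⟨a, A⟩ ⟨b, B⟩ ⟨ha, hA⟩ ⟨hb, hB⟩
    refine ⟨mul_mem ha hb, ?_⟩
    have h1 := acts_mul hW hb hA hB
    rwa [← Pi.mulSingle_mul] at h1
  one_mem' := ⟨one_mem _, by
    have h1 : (Pi.mulSingle i (1 : Matrix.SpecialLinearGroup (Fin 2) F) : Fin k → _) = 1 := Pi.mulSingle_one i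
    change ActsSL h.e W D 1 (Pi.mulSingle i (1 : Matrix.SpecialLinearGroup (Fin 2) F))
    rw [h1]
    exact acts_one⟩
  inv_mem' := by
    rintro ⟨a, A⟩ ⟨ha, hA⟩
    refine ⟨inv_mem ha, ?_⟩
    have h1 := acts_inv hW ha hA
    rwa [← Pi.mulSingle_inv] at h1

theorem mem_R {hW : P ≤ normalizer (W : Set G)} {i : Fin k} {g : G} {A : Matrix.SpecialLinearGroup (Fin 2) F} :
    (g, A) ∈ R h hW i ↔ g ∈ P ∧ ActsSL h.e W D g (Pi.mulSingle i A) := Iff.rfl

theorem P_le_normalizer_E [Finite G] (hW : P ≤ normalizer (W : Set G)) (hD : P ≤ normalizer (D : Set G)) :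
    P ≤ normalizer (E h hW : Set G) := by
  intro g hg
  refine mem_normalizer_of_cj_le ?_
  rintro _ ⟨x, ⟨hx, A, hA⟩, rfl⟩
  change g * x * g⁻¹ ∈ E h hW
  refine ⟨mul_mem (mul_mem hg hx) (inv_mem hg), ?_⟩
  obtain ⟨B, hB⟩ := h.norm g hg x hx A hA.1
  refine ⟨B, hB, fun d hd => ?_⟩
  have h1 : g⁻¹ * d * g ∈ D := by
    have := (mem_normalizer_iff.1 (hD (inv_mem hg)) d).1 hd
    rwa [inv_inv] at this
  have h2 := congrArg (fun t => g * t * g⁻¹) (hA.2 _ h1)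
  simpa [mul_assoc] using h2

theorem E_le_normalizer_dom [Finite G] (hW : P ≤ normalizer (W : Set G)) (i : Fin k) :
    E h hW ≤ normalizer (dom (R h hW i) : Set G) := by
  rintro g ⟨hg, A, hA⟩
  refine mem_normalizer_of_cj_le ?_
  rintro _ ⟨x, hx, rfl⟩
  obtain ⟨C, hx, hC⟩ := mem_dom.1 hx
  change g * x * g⁻¹ ∈ dom (R h hW i)
  refine mem_dom.2 ⟨A i * C * (A i)⁻¹, mul_mem (mul_mem hg hx) (inv_mem hg), ?_⟩
  have h1 := acts_mul hW (inv_mem hg) (acts_mul hW hx hA hC) (acts_inv hW hg hA)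
  have h2 : A * Pi.mulSingle i C * A⁻¹ = Pi.mulSingle i (A i * C * (A i)⁻¹) := by
    funext j
    by_cases hj : j = i
    · subst hj
      simp
    · simp [Pi.mulSingle_eq_of_ne hj]
  rwa [h2] at h1

/-- **(L3).** -/
theorem main [Finite G] [Finite F] (hW : P ≤ normalizer (W : Set G)) (hD : P ≤ normalizer (D : Set G))
    (hS : Syl S P) {H : Subgroup G} (hH : H ≤ P) (hSH : ∀ g ∈ P, ∃ s ∈ S, ∃ x ∈ H, g = s * x)
    (hL : ∀ (K : Subgroup (Matrix.SpecialLinearGroup (Fin 2) F)) (t : ℕ), K.index = 2 ^ t → K = ⊤) (i : Fin k) :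
    (∀ A, ∃ x ∈ H, ActsSL h.e W D x (Pi.mulSingle i A)) ∧
      ∀ b : F, ∃ s ∈ S, s ∈ H ∧ ActsSL h.e W D s (Pi.mulSingle i (up b)) := by
  have hR : ∀ A : Matrix.SpecialLinearGroup (Fin 2) F, ∃ g : G, (g, A) ∈ R h hW i := fun A => by
    obtain ⟨g, hg, hA⟩ := h.lift (Pi.mulSingle i A)
    exact ⟨g, hg, hA⟩
  have hf : ∀ A : Matrix.SpecialLinearGroup (Fin 2) F, (1, A) ∈ R h hW i → A = 1 := fun A hA => by
    have h1 := acts_uniq h hA.2 acts_one
    have h2 := congrFun h1 i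
    rwa [Pi.mulSingle_eq_same, Pi.one_apply] at h2
  have hRE : dom (R h hW i) ≤ E h hW := fun g hg => by
    obtain ⟨A, hg, hA⟩ := mem_dom.1 hg
    exact ⟨hg, _, hA⟩
  obtain ⟨⟨t, ht⟩, hSyl⟩ := Idx.main hS hH hSH (E := E h hW) (fun g hg => hg.1) (P_le_normalizer_E h hW hD) hR hf
    hRE (E_le_normalizer_dom h hW i)
  have htop := hL _ t ht
  rw [htop] at hSyl
  constructor
  · intro A
    have hA : A ∈ im (R h hW i) H := htop ▸ mem_top A
    obtain ⟨x, hx, h1⟩ := mem_im.1 hA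
    exact ⟨x, hx, h1.2⟩
  · have h1 : im (R h hW i) S = im (R h hW i) (S ⊓ H) :=
      hSyl.2.2 _ le_top (im_isPGroup hf hS.2.1) (im_mono inf_le_left)
    intro b
    obtain ⟨s, hs, h2⟩ := h.unip (Pi.single i b)
    have h3 : (fun j => up ((Pi.single i b : Fin k → F) j)) = Pi.mulSingle i (up b) := by
      funext j
      by_cases hj : j = i
      · subst hj
        rw [Pi.single_eq_same, Pi.mulSingle_eq_same]
      · rw [Pi.single_eq_of_ne hj, Pi.mulSingle_eq_of_ne hj, up_zero]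
    rw [h3] at h2
    have h4 : up b ∈ im (R h hW i) S := ⟨s, hs, hS.1 hs, h2⟩
    rw [h1] at h4
    obtain ⟨s', hs', h5⟩ := mem_im.1 h4
    exact ⟨s', hs'.1, hs'.2, h5.2⟩

end Cfsg.Agent.Omega.NO3S.ThmB.End.NatIdx
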