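import Mathlib
import Cfsg.Agent.PermutationGroups.SylowTransitive

/-!
`SL(2,F)`, `F` a finite field of characteristic two with at least four elements, has no proper
subgroup of `2`-power index.
-/

set_option autoImplicit false

namespace Cfsg.Agent.Omega.NO3S.ThmB.End.SLIdx

open Matrix

variable {F : Type*} [Field F]

local notation:1024 "↑ₘ" A:1024 =>
  ((A : Matrix.SpecialLinearGroup (Fin 2) F) : Matrix (Fin 2) (Fin 2) F)

/-- Upper unipotent matrices. -/
def up (c : F) : Matrix.SpecialLinearGroup (Fin 2) F := ⟨!![1, c; 0, 1], by simp [det_fin_two_of]⟩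

/-- Lower unipotent matrices. -/
def low (c : F) : Matrix.SpecialLinearGroup (Fin 2) F := ⟨!![1, 0; c, 1], by simp [det_fin_two_of]⟩

theorem up_val (c : F) : ↑ₘ(up c) = !![1, c; 0, 1] := rfl

theorem low_val (c : F) : ↑ₘ(low c) = !![1, 0; c, 1] := rfl

theorem det_eq (g : Matrix.SpecialLinearGroup (Fin 2) F) : ↑ₘg 0 0 * ↑ₘg 1 1 - ↑ₘg 0 1 * ↑ₘg 1 0 = 1 := by
  rw [← det_fin_two]
  exact g.2

theorem ext_iff' {g h : Matrix.SpecialLinearGroup (Fin 2) F} :
    g = h ↔ ↑ₘg 0 0 = ↑ₘh 0 0 ∧ ↑ₘg 0 1 = ↑ₘh 0 1 ∧ ↑ₘg 1 0 = ↑ₘh 1 0 ∧ ↑ₘg 1 1 = ↑ₘh 1 1 := by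
  constructor
  · rintro rfl
    exact ⟨rfl, rfl, rfl, rfl⟩
  · rintro ⟨h1, h2, h3, h4⟩
    ext i j
    fin_cases i <;> fin_cases j
    · exact h1
    · exact h2
    · exact h3
    · exact h4

/-- A subgroup containing all upper and all lower unipotent matrices is everything. -/
theorem eq_top_of (H : Subgroup (Matrix.SpecialLinearGroup (Fin 2) F)) (h1 : ∀ c : F, up c ∈ H)
    (h2 : ∀ c : F, low c ∈ H) : H = ⊤ := by
  have key : ∀ g : Matrix.SpecialLinearGroup (Fin 2) F, ↑ₘg 1 0 ≠ 0 → g ∈ H := by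
    intro g hg
    have h3 : g = up ((↑ₘg 0 0 - 1) / ↑ₘg 1 0) * low (↑ₘg 1 0) * up ((↑ₘg 1 1 - 1) / ↑ₘg 1 0) := by
      have hd := det_eq g
      rw [ext_iff']
      simp only [up_val, low_val, Matrix.SpecialLinearGroup.coe_mul, Matrix.mul_apply, Fin.sum_univ_two, of_apply,
        cons_val', cons_val_zero, cons_val_one, cons_val_fin_one]
      refine ⟨?_, ?_, ?_, ?_⟩
      · field_simp
        ring
      · field_simp
        linear_combination (-1 : F) * hd
      · ring
      · field_simp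
        ring
    rw [h3]
    exact H.mul_mem (H.mul_mem (h1 _) (h2 _)) (h1 _)
  rw [eq_top_iff]
  rintro g -
  by_cases hg : ↑ₘg 1 0 = 0
  · have h3 : low 1 * g ∈ H := by
      refine key _ ?_
      have hd := det_eq g
      rw [hg, mul_zero, sub_zero] at hd
      simp only [low_val, Matrix.SpecialLinearGroup.coe_mul, Matrix.mul_apply, Fin.sum_univ_two, of_apply,
        cons_val', cons_val_zero, cons_val_one, cons_val_fin_one, hg]
      intro h
      have h5 : ↑ₘg 0 0 = 0 := by simpa using h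
      rw [h5, zero_mul] at hd
      exact zero_ne_one hd
    have h4 := H.mul_mem (H.inv_mem (h2 1)) h3
    rwa [inv_mul_cancel_left] at h4
  · exact key g hg

/-- The natural action. -/
@[reducible] def act : MulAction (Matrix.SpecialLinearGroup (Fin 2) F) (Fin 2 → F) where
  smul g v := ↑ₘg *ᵥ v
  one_smul v := by
    change (1 : Matrix (Fin 2) (Fin 2) F) *ᵥ v = v
    exact one_mulVec v
  mul_smul g h v := by
    change (↑ₘg * ↑ₘh) *ᵥ v = ↑ₘg *ᵥ (↑ₘh *ᵥ v)
    rw [mulVec_mulVec]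

/-- The first basis vector. -/
def e1 : Fin 2 → F := ![1, 0]

theorem mulVec_e1 (g : Matrix.SpecialLinearGroup (Fin 2) F) : ↑ₘg *ᵥ e1 = ![↑ₘg 0 0, ↑ₘg 1 0] := by
  ext i
  fin_cases i <;> simp [e1, mulVec, dotProduct, Fin.sum_univ_two]

theorem exists_map_e1 {v : Fin 2 → F} (hv : v ≠ 0) :
    ∃ g : Matrix.SpecialLinearGroup (Fin 2) F, ↑ₘg *ᵥ e1 = v := by
  by_cases h0 : v 0 = 0
  · have h1 : v 1 ≠ 0 := by
      intro h1
      apply hv
      ext i
      fin_cases i
      · exact h0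
      · exact h1
    refine ⟨⟨!![0, -(v 1)⁻¹; v 1, 0], ?_⟩, (mulVec_e1 _).trans ?_⟩
    · rw [det_fin_two_of]
      field_simp
      ring
    · ext i
      fin_cases i
      · exact h0.symm
      · rfl
  · refine ⟨⟨!![v 0, 0; v 1, (v 0)⁻¹], ?_⟩, (mulVec_e1 _).trans ?_⟩
    · rw [det_fin_two_of, zero_mul, sub_zero, mul_inv_cancel₀ h0]
    · ext i
      fin_cases i
      · rfl
      · rfl

theorem mulVec_ne_zero (g : Matrix.SpecialLinearGroup (Fin 2) F) {v : Fin 2 → F} (hv : v ≠ 0) :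
    ↑ₘg *ᵥ v ≠ 0 := by
  intro h
  apply hv
  have h1 : ↑ₘ(g⁻¹) *ᵥ (↑ₘg *ᵥ v) = v := by
    rw [mulVec_mulVec, ← Matrix.SpecialLinearGroup.coe_mul, inv_mul_cancel]
    exact one_mulVec v
  rw [← h1, h, mulVec_zero]

/-- The order of a finite field of characteristic two is even. -/
theorem two_dvd_card [Finite F] [CharP F 2] : 2 ∣ Nat.card F := by
  have h1 : addOrderOf (1 : F) = 2 :=
    addOrderOf_eq_prime (by rw [two_nsmul]; exact CharTwo.add_self_eq_zero 1) one_ne_zero
  rw [← h1]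
  exact addOrderOf_dvd_natCard 1

/-- A subgroup of `2`-power index is transitive on the nonzero vectors. -/
theorem exists_mem [Finite F] [CharP F 2] {t : ℕ} (H : Subgroup (Matrix.SpecialLinearGroup (Fin 2) F))
    (hH : H.index = 2 ^ t) {v : Fin 2 → F} (hv : v ≠ 0) : ∃ h ∈ H, ↑ₘh *ᵥ e1 = v := by
  let _ := act (F := F)
  have he : (e1 : Fin 2 → F) ≠ 0 := fun h => one_ne_zero (congrFun h 0)
  have horb : MulAction.orbit (Matrix.SpecialLinearGroup (Fin 2) F) (e1 : Fin 2 → F) = {0}ᶜ := by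
    ext w
    rw [Set.mem_compl_singleton_iff]
    constructor
    · rintro ⟨g, rfl⟩
      exact mulVec_ne_zero g he
    · intro hw
      obtain ⟨g, hg⟩ := exists_map_e1 hw
      exact ⟨g, hg⟩
  have hcard : (Nat.card (MulAction.orbit (Matrix.SpecialLinearGroup (Fin 2) F) (e1 : Fin 2 → F)))
      + 1 = Nat.card F ^ 2 := by
    rw [Nat.card_coe_set_eq, horb]
    have h1 := Set.ncard_add_ncard_compl ({0} : Set (Fin 2 → F))
    rw [Set.ncard_singleton, Nat.card_fun, Nat.card_eq_fintype_card (α := Fin 2),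
      Fintype.card_fin] at h1
    omega
  have hodd : Odd (Nat.card (MulAction.orbit (Matrix.SpecialLinearGroup (Fin 2) F) (e1 : Fin 2 → F))) := by
    obtain ⟨k, hk⟩ := two_dvd_card (F := F)
    rw [hk] at hcard
    rw [← Nat.not_even_iff_odd]
    rintro ⟨j, hj⟩
    have h2 : (2 * k) ^ 2 = 2 * (2 * k ^ 2) := by ring
    omega
  have htr := PermutationGroups.SylowTransitive.isPretransitive_of_coprime_index
    (Ω := MulAction.orbit (Matrix.SpecialLinearGroup (Fin 2) F) (e1 : Fin 2 → F)) H (by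
      rw [hH]
      exact Nat.Coprime.pow_right t (Nat.coprime_two_right.2 hodd))
  obtain ⟨h, hh⟩ := htr.exists_smul_eq
    ⟨e1, MulAction.mem_orbit_self e1⟩ ⟨v, by rw [horb]; exact hv⟩
  exact ⟨h.1, h.2, congrArg Subtype.val hh⟩

/-- An involution in characteristic two fixes a nonzero vector. -/
theorem exists_fixed [CharP F 2] (z : Matrix.SpecialLinearGroup (Fin 2) F) (hz : z * z = 1) :
    ∃ v : Fin 2 → F, v ≠ 0 ∧ ↑ₘz *ᵥ v = v := by
  have h1 : (↑ₘz - 1) * (↑ₘz - 1) = 0 := by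
    have h2 : ↑ₘz * ↑ₘz = 1 := by
      rw [← Matrix.SpecialLinearGroup.coe_mul, hz]
      rfl
    calc (↑ₘz - 1) * (↑ₘz - 1) = ↑ₘz * ↑ₘz - ↑ₘz - (↑ₘz - 1) := by
          rw [sub_mul, mul_sub, mul_one, one_mul]
      _ = (1 + 1) - (↑ₘz + ↑ₘz) := by rw [h2]; abel
      _ = 0 := by rw [CharTwo.add_self_eq_zero, CharTwo.add_self_eq_zero, sub_zero]
  have h2 : (↑ₘz - 1).det = 0 := by
    have := congrArg det h1
    rw [det_mul, det_zero] at this
    exact mul_self_eq_zero.1 this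
  obtain ⟨v, hv, hv2⟩ := exists_mulVec_eq_zero_iff.2 h2
  refine ⟨v, hv, ?_⟩
  rw [sub_mulVec, one_mulVec] at hv2
  exact sub_eq_zero.1 hv2

/-- **No proper subgroups of `2`-power index.** -/
theorem eq_top [Finite F] [CharP F 2] (h4 : 4 ≤ Nat.card F) {t : ℕ}
    (H : Subgroup (Matrix.SpecialLinearGroup (Fin 2) F)) (hH : H.index = 2 ^ t) : H = ⊤ := by
  have he : (e1 : Fin 2 → F) ≠ 0 := fun h => one_ne_zero (congrFun h 0)
  by_cases hf : ∀ x ∈ H, ∀ v : Fin 2 → F, v ≠ 0 → ↑ₘx *ᵥ v = v → x = 1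
  · exfalso
    have hinv : ∀ z ∈ H, z * z = 1 → z = 1 := by
      intro z hz hzz
      obtain ⟨v, hv, hv2⟩ := exists_fixed z hzz
      exact hf z hz v hv hv2
    obtain ⟨l, hl0, hl1⟩ : ∃ l : F, l ≠ 0 ∧ l ≠ 1 := by
      by_contra hcon
      push Not at hcon
      have h5 : (Set.univ : Set F) ⊆ {0, 1} := by
        intro x _
        by_cases hx : x = 0
        · exact Or.inl hx
        · exact Or.inr (hcon x hx)
      have h6 := Set.ncard_le_ncard h5 (Set.toFinite _)
      rw [Set.ncard_univ] at h6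
      have h7 : ({0, 1} : Set F).ncard ≤ 2 := by
        refine (Set.ncard_insert_le _ _).trans ?_
        rw [Set.ncard_singleton]
      omega
    obtain ⟨a, haH, ha⟩ := exists_mem H hH (v := ![l, 0]) (fun h => hl0 (congrFun h 0))
    rw [mulVec_e1] at ha
    have ha00 : ↑ₘa 0 0 = l := congrFun ha 0
    have ha10 : ↑ₘa 1 0 = 0 := congrFun ha 1
    have hd := det_eq a
    rw [ha00, ha10, mul_zero, sub_zero] at hd
    have ha11 : ↑ₘa 1 1 = l⁻¹ := by
      field_simp
      linear_combination hd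
    have hll : l⁻¹ - l ≠ 0 := by
      intro h
      have h5 : l * l = 1 := by
        have h6 : l⁻¹ = l := sub_eq_zero.1 h
        calc l * l = l * l⁻¹ := by rw [h6]
          _ = 1 := mul_inv_cancel₀ hl0
      rcases mul_self_eq_one_iff.1 h5 with h6 | h6
      · exact hl1 h6
      · rw [CharTwo.neg_eq] at h6
        exact hl1 h6
    have hv'0 : (![↑ₘa 0 1, l⁻¹ - l] : Fin 2 → F) ≠ 0 := fun h => hll (congrFun h 1)
    obtain ⟨h, hhH, hh⟩ := exists_mem H hH hv'0
    have hav : ↑ₘa *ᵥ ![↑ₘa 0 1, l⁻¹ - l] = l⁻¹ • ![↑ₘa 0 1, l⁻¹ - l] := by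
      ext i
      fin_cases i
      · simp only [mulVec, dotProduct, Fin.sum_univ_two, Pi.smul_apply, smul_eq_mul,
          cons_val_zero, cons_val_one, Fin.zero_eta, ha00]
        ring
      · simp only [mulVec, dotProduct, Fin.sum_univ_two, Pi.smul_apply, smul_eq_mul,
          cons_val_zero, cons_val_one, Fin.mk_one, ha10, ha11]
        ring
    have h1 : a * (h⁻¹ * a * h) = 1 := by
      refine hf _ (H.mul_mem haH (H.mul_mem (H.mul_mem (H.inv_mem hhH) haH) hhH)) e1 he ?_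
      have h5 : ↑ₘ(h⁻¹) *ᵥ (![↑ₘa 0 1, l⁻¹ - l] : Fin 2 → F) = e1 := by
        rw [← hh, mulVec_mulVec, ← Matrix.SpecialLinearGroup.coe_mul, inv_mul_cancel]
        exact one_mulVec _
      have h6 : ↑ₘa *ᵥ (e1 : Fin 2 → F) = l • e1 := by
        rw [mulVec_e1, ha00, ha10]
        ext i
        fin_cases i
        · simp [e1]
        · simp [e1]
      calc ↑ₘ(a * (h⁻¹ * a * h)) *ᵥ (e1 : Fin 2 → F)
          = ↑ₘa *ᵥ (↑ₘ(h⁻¹) *ᵥ (↑ₘa *ᵥ (↑ₘh *ᵥ e1))) := by
            simp only [mulVec_mulVec, Matrix.SpecialLinearGroup.coe_mul, mul_assoc]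
        _ = ↑ₘa *ᵥ (↑ₘ(h⁻¹) *ᵥ (l⁻¹ • ![↑ₘa 0 1, l⁻¹ - l])) := by rw [hh, hav]
        _ = ↑ₘa *ᵥ (l⁻¹ • e1) := by rw [mulVec_smul, h5]
        _ = l⁻¹ • (l • e1) := by rw [mulVec_smul, h6]
        _ = e1 := by rw [smul_smul, inv_mul_cancel₀ hl0, one_smul]
    have h2 : h⁻¹ * a * h = a⁻¹ := (inv_eq_of_mul_eq_one_right h1).symm
    have h3 : Commute (h ^ 2) a := by
      have h5 : h⁻¹ * (h⁻¹ * a * h) * h = a := by
        rw [h2]
        calc h⁻¹ * a⁻¹ * h = (h⁻¹ * a * h)⁻¹ := by group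
          _ = a := by rw [h2, inv_inv]
      have h6 : h * h * a = a * (h * h) := by
        calc h * h * a = h * h * (h⁻¹ * (h⁻¹ * a * h) * h) := by rw [h5]
          _ = a * (h * h) := by group
      rw [pow_two]
      exact h6
    have hodd : Odd (orderOf h) := by
      rw [← Nat.not_even_iff_odd]
      rintro ⟨k, hk⟩
      have hpos := orderOf_pos h
      have h5 : h ^ k = 1 := by
        refine hinv _ (H.pow_mem hhH k) ?_
        rw [← pow_add, ← hk, pow_orderOf_eq_one]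
      have h6 := orderOf_dvd_of_pow_eq_one h5
      have h7 := Nat.le_of_dvd (by omega) h6
      omega
    have h5 : Commute h a := by
      obtain ⟨k, hk⟩ := hodd
      have h6 : (h ^ 2) ^ (k + 1) = h := by
        rw [← pow_mul, show 2 * (k + 1) = orderOf h + 1 by omega, pow_succ, pow_orderOf_eq_one,
          one_mul]
      rw [← h6]
      exact h3.pow_left _
    have h6 : a * a = 1 := by
      have h7 : h⁻¹ * a * h = a := by
        rw [mul_assoc, ← h5.eq, inv_mul_cancel_left]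
      rw [h7] at h2
      calc a * a = a * a⁻¹ := by rw [← h2]
        _ = 1 := mul_inv_cancel a
    have h7 := hinv a haH h6
    rw [h7] at ha00
    exact hl1 (by rw [← ha00]; rfl)
  · push Not at hf
    obtain ⟨x, hxH, v, hv, hxv, hx1⟩ := hf
    obtain ⟨g, hgH, hg⟩ := exists_mem H hH hv
    have huH : g⁻¹ * x * g ∈ H := H.mul_mem (H.mul_mem (H.inv_mem hgH) hxH) hgH
    have hu1 : g⁻¹ * x * g ≠ 1 := by
      intro h
      apply hx1
      calc x = g * (g⁻¹ * x * g) * g⁻¹ := by group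
        _ = 1 := by rw [h]; group
    have hue : ↑ₘ(g⁻¹ * x * g) *ᵥ (e1 : Fin 2 → F) = e1 := by
      calc ↑ₘ(g⁻¹ * x * g) *ᵥ (e1 : Fin 2 → F) = ↑ₘ(g⁻¹) *ᵥ (↑ₘx *ᵥ (↑ₘg *ᵥ e1)) := by
            simp only [mulVec_mulVec, Matrix.SpecialLinearGroup.coe_mul, mul_assoc]
        _ = ↑ₘ(g⁻¹) *ᵥ (↑ₘg *ᵥ e1) := by rw [hg, hxv]
        _ = e1 := by
            rw [mulVec_mulVec, ← Matrix.SpecialLinearGroup.coe_mul, inv_mul_cancel]
            exact one_mulVec _
    generalize g⁻¹ * x * g = u at huH hu1 hue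
    rw [mulVec_e1] at hue
    have hu00 : ↑ₘu 0 0 = 1 := congrFun hue 0
    have hu10 : ↑ₘu 1 0 = 0 := congrFun hue 1
    have hd := det_eq u
    rw [hu00, hu10, mul_zero, sub_zero, one_mul] at hd
    have hy : ↑ₘu 0 1 ≠ 0 := by
      intro h
      apply hu1
      rw [ext_iff']
      exact ⟨hu00, h, hu10, hd⟩
    have hup : ∀ c : F, up c ∈ H := by
      intro c
      by_cases hc : c = 0
      · have : up c = 1 := by
          rw [hc, ext_iff']
          exact ⟨rfl, rfl, rfl, rfl⟩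
        rw [this]
        exact H.one_mem
      have : Fintype F := Fintype.ofFinite F
      obtain ⟨l, hl⟩ := FiniteField.isSquare_of_char_two (ringChar.eq F 2) (c / ↑ₘu 0 1)
      have hl0 : l ≠ 0 := by
        rintro rfl
        rw [mul_zero, div_eq_zero_iff] at hl
        exact hl.elim hc hy
      obtain ⟨h, hhH, hh⟩ := exists_mem H hH (v := ![l, 0]) (fun h => hl0 (congrFun h 0))
      rw [mulVec_e1] at hh
      have h00 : ↑ₘh 0 0 = l := congrFun hh 0
      have h10 : ↑ₘh 1 0 = 0 := congrFun hh 1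
      have hdh := det_eq h
      rw [h00, h10, mul_zero, sub_zero] at hdh
      have h5 : up c * h = h * u := by
        rw [ext_iff']
        simp only [up_val, Matrix.SpecialLinearGroup.coe_mul, Matrix.mul_apply, Fin.sum_univ_two, of_apply,
          cons_val', cons_val_zero, cons_val_one, cons_val_fin_one, h00, h10, hu00, hu10, hd]
        refine ⟨by ring, ?_, by ring, by ring⟩
        rw [div_eq_iff hy] at hl
        rw [hl]
        linear_combination (↑ₘu 0 1 * l) * hdh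
      have h6 : up c = h * u * h⁻¹ := by
        rw [← h5, mul_inv_cancel_right]
      rw [h6]
      exact H.mul_mem (H.mul_mem hhH huH) (H.inv_mem hhH)
    have hlow : ∀ c : F, low c ∈ H := by
      intro c
      obtain ⟨g, hgH, hg⟩ := exists_mem H hH (v := ![0, 1]) (fun h => one_ne_zero (congrFun h 1))
      rw [mulVec_e1] at hg
      have h00 : ↑ₘg 0 0 = 0 := congrFun hg 0
      have h10 : ↑ₘg 1 0 = 1 := congrFun hg 1
      have hdg := det_eq g
      rw [h00, h10, zero_mul, mul_one, zero_sub] at hdg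
      have h5 : low c * g = g * up (-c) := by
        rw [ext_iff']
        simp only [up_val, low_val, Matrix.SpecialLinearGroup.coe_mul, Matrix.mul_apply, Fin.sum_univ_two, of_apply,
          cons_val', cons_val_zero, cons_val_one, cons_val_fin_one, h00, h10]
        refine ⟨by ring, by ring, by ring, ?_⟩
        linear_combination (-c) * hdg
      have h6 : low c = g * up (-c) * g⁻¹ := by
        rw [← h5, mul_inv_cancel_right]
      rw [h6]
      exact H.mul_mem (H.mul_mem hgH (hup _)) (H.inv_mem hgH)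
    exact eq_top_of H hup hlow

end Cfsg.Agent.Omega.NO3S.ThmB.End.SLIdx
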