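import Mathlib
import Cfsg.Agent.PermutationGroups.SylowTransitive

/-!
Subgroups of `2`-power index of the symmetric group of degree `2 ^ m + 1`, `m ≥ 2`, contain the
alternating group.
-/

set_option autoImplicit false

namespace Cfsg.Agent.Omega.NO3S.ThmB.End.AltIdx

open Equiv MulAction

/-- A `p`-element has a conjugate in every subgroup of index prime to `p`. -/
theorem exists_conj_mem {G : Type*} [Group G] [Finite G] {p : ℕ} [Fact p.Prime] (H : Subgroup G)
    (hH : ¬ p ∣ H.index) {x : G} (hx : IsPGroup p (Subgroup.zpowers x)) :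
    ∃ g : G, g⁻¹ * x * g ∈ H := by
  obtain ⟨c, hc⟩ := hx.nonempty_fixed_point_of_prime_not_dvd_card (G ⧸ H) (by
    rwa [← Subgroup.index_eq_card])
  obtain ⟨g, rfl⟩ := QuotientGroup.mk_surjective c
  refine ⟨g, ?_⟩
  have h1 := hc ⟨x, Subgroup.mem_zpowers x⟩
  have h2 : ((x * g : G) : G ⧸ H) = (g : G ⧸ H) := h1
  have h3 := QuotientGroup.eq.1 h2.symm
  rwa [← mul_assoc] at h3

variable {α : Type*} [Fintype α] [DecidableEq α]

/-- A subgroup of `2`-power index contains a cycle of every odd prime order up to the degree. -/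
theorem exists_cycle {t p : ℕ} (hp : p.Prime) (hp2 : p ≠ 2) (hpn : p ≤ Fintype.card α)
    (H : Subgroup (Perm α)) (hH : H.index = 2 ^ t) :
    ∃ g ∈ H, g.IsCycle ∧ g.support.card = p := by
  have : Fact p.Prime := ⟨hp⟩
  obtain ⟨c, hc⟩ : ∃ c : Perm α, c.cycleType = {p} := by
    rw [Perm.exists_with_cycleType_iff]
    refine ⟨by simpa using hpn, ?_⟩
    intro a ha
    rw [Multiset.mem_singleton] at ha
    exact ha ▸ hp.two_le
  have hord : orderOf c = p := by
    rw [← Perm.lcm_cycleType, hc]
    simp
  obtain ⟨g, hg⟩ := exists_conj_mem (p := p) H (x := c) (by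
    rw [hH]
    intro h
    exact hp2 ((Nat.prime_dvd_prime_iff_eq hp Nat.prime_two).1 (hp.dvd_of_dvd_pow h)))
    (IsPGroup.of_card (n := 1) (by rw [Nat.card_zpowers, hord, pow_one]))
  refine ⟨g⁻¹ * c * g, hg, ?_, ?_⟩
  · have h1 : (g⁻¹ * c * g).cycleType = {p} := by
      rw [← hc]
      have := Perm.cycleType_conj (σ := c) (τ := g⁻¹)
      rwa [inv_inv] at this
    rw [← Perm.card_cycleType_eq_one, h1]
    rfl
  · have h1 : (g⁻¹ * c * g).cycleType = {p} := by
      rw [← hc]
      have := Perm.cycleType_conj (σ := c) (τ := g⁻¹)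
      rwa [inv_inv] at this
    rw [← Perm.sum_cycleType, h1]
    simp

omit [DecidableEq α] in
/-- A subgroup of `2`-power index is transitive when the degree is odd. -/
theorem isPretransitive {t : ℕ} (hodd : Odd (Fintype.card α)) (H : Subgroup (Perm α))
    (hH : H.index = 2 ^ t) : IsPretransitive H α := by
  refine PermutationGroups.SylowTransitive.isPretransitive_of_coprime_index H ?_
  rw [hH, Nat.card_eq_fintype_card]
  exact Nat.Coprime.pow_right t (Nat.coprime_two_right.2 hodd)

/-- A transitive group containing a cycle of prime length larger than half of the degree is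
primitive. -/
theorem isPreprimitive (H : Subgroup (Perm α)) [IsPretransitive H α] {g : Perm α} (hg : g ∈ H)
    (hc : g.IsCycle) (hp : g.support.card.Prime) (h2 : Fintype.card α < 2 * g.support.card) :
    IsPreprimitive H α := by
  classical
  have h1 := Perm.isPretransitive_of_isCycle_mem hc hg
  have hcard : Nat.card (SubMulAction.ofFixingSubgroup H (g.support : Set α)ᶜ)
      = g.support.card := by
    have h3 : ((SubMulAction.ofFixingSubgroup H (g.support : Set α)ᶜ : Set α)) = g.support := by
      ext x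
      simp [SubMulAction.mem_ofFixingSubgroup_iff]
    have h4 : Nat.card (SubMulAction.ofFixingSubgroup H (g.support : Set α)ᶜ)
        = Nat.card ((SubMulAction.ofFixingSubgroup H (g.support : Set α)ᶜ : Set α)) := rfl
    rw [h4, h3, Nat.card_coe_set_eq, Set.ncard_coe_finset]
  have h5 : IsPreprimitive (fixingSubgroup H (g.support : Set α)ᶜ)
      (SubMulAction.ofFixingSubgroup H (g.support : Set α)ᶜ) :=
    IsPreprimitive.of_prime_card (by rw [hcard]; exact hp)
  let f : SubMulAction.ofFixingSubgroup H (g.support : Set α)ᶜ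
      →ₑ[((fixingSubgroup H (g.support : Set α)ᶜ).subtype : _ → H)] α :=
    { toFun := fun x => (x : α)
      map_smul' := fun _ _ => rfl }
  refine IsPreprimitive.of_card_lt (f := f) ?_
  have h6 : (Set.range f).ncard = g.support.card := by
    rw [← hcard, ← Nat.card_coe_set_eq]
    exact (Nat.card_congr (Equiv.ofInjective f Subtype.val_injective)).symm
  rw [h6, Nat.card_eq_fintype_card]
  exact h2

/-- Subgroups of `2`-power index of the symmetric group of degree `2 ^ m + 1`, `m ≥ 2`, contain
the alternating group. -/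
theorem alternatingGroup_le {m t : ℕ} (hm : 2 ≤ m) (hn : Fintype.card α = 2 ^ m + 1)
    (H : Subgroup (Perm α)) (hH : H.index = 2 ^ t) : alternatingGroup α ≤ H := by
  obtain ⟨k, rfl⟩ : ∃ k, m = k + 1 := ⟨m - 1, by omega⟩
  have hk : 2 ≤ 2 ^ k := by
    calc 2 = 2 ^ 1 := (pow_one 2).symm
      _ ≤ 2 ^ k := Nat.pow_le_pow_right (by norm_num) (by omega)
  have hodd : Odd (Fintype.card α) := by
    rw [hn, pow_succ]
    exact ⟨2 ^ k, by ring⟩
  have := isPretransitive hodd H hH
  obtain ⟨p, hp, hp1, hp2⟩ := Nat.exists_prime_lt_and_le_two_mul (2 ^ k) (by omega)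
  obtain ⟨g, hg, hgc, hgs⟩ := exists_cycle hp (by omega) (by rw [hn, pow_succ]; omega) H hH
  have hprim : IsPreprimitive H α :=
    isPreprimitive H hg hgc (by rw [hgs]; exact hp) (by rw [hn, hgs, pow_succ]; omega)
  obtain ⟨c, hc, hcc, hcs⟩ := exists_cycle Nat.prime_three (by norm_num)
    (by rw [hn, pow_succ]; omega) H hH
  exact Perm.alternatingGroup_le_of_isPreprimitive_of_isThreeCycle_mem hprim
    (card_support_eq_three_iff.1 hcs) hc

/-- The same for `Fin (2 ^ m + 1)`. -/
theorem alternatingGroup_le_fin {m t : ℕ} (hm : 2 ≤ m) (H : Subgroup (Perm (Fin (2 ^ m + 1))))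
    (hH : H.index = 2 ^ t) : alternatingGroup (Fin (2 ^ m + 1)) ≤ H :=
  alternatingGroup_le hm (Fintype.card_fin _) H hH

end Cfsg.Agent.Omega.NO3S.ThmB.End.AltIdx
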