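import Cfsg.Agent.ZN.ChoiceSit

/-!
# THEOREM B, end: indices

* `prod_relIndex` : `P = S H` gives `|P : H| = |S : S ∩ H|`;
* `relIndex_dvd` : `|N : N ∩ K|` divides `|P : K|` if `K ≤ P` normalises `N ≤ P`;
* `sub_dvd` : the same for `N` normal in `E` and `E` normal in `P`;
* `im R K` : the image of `K` under a partial homomorphism given by its graph `R ≤ G × X`;
* `im_index_dvd`, `im_relIndex_dvd`.
-/

set_option autoImplicit false

namespace Cfsg.Agent.Omega.NO3S.ThmB.End.Idx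

open Subgroup Cfsg Cfsg.Agent.ZN Cfsg.Agent.ZN.ChoiceBase Cfsg.Agent.ZN.ChoiceSit

universe u v

section one

variable {G : Type u} [Group G]

/-- `P = S H` gives `|P : H| = |S : S ∩ H|`. -/
theorem prod_relIndex {P S H : Subgroup G} (hS : S ≤ P)
    (h : ∀ g ∈ P, ∃ s ∈ S, ∃ x ∈ H, g = s * x) : H.relIndex P = H.relIndex S := by
  have hb : Function.Bijective (quotientSubgroupOfEmbeddingOfLE H hS) := by
    refine ⟨(quotientSubgroupOfEmbeddingOfLE H hS).injective, fun q => ?_⟩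
    induction q using QuotientGroup.induction_on with
    | H g =>
      obtain ⟨s, hs, x, hx, e⟩ := h g g.2
      refine ⟨QuotientGroup.mk ⟨s, hs⟩, ?_⟩
      rw [quotientSubgroupOfEmbeddingOfLE_apply_mk, QuotientGroup.eq]
      rw [mem_subgroupOf]
      change s⁻¹ * (g : G) ∈ H
      rw [e, inv_mul_cancel_left]
      exact hx
  exact (Nat.card_congr (Equiv.ofBijective _ hb)).symm

/-- `|N : N ∩ K|` divides `|P : K|` if `K ≤ P` normalises `N ≤ P`. -/
theorem relIndex_dvd {P N K : Subgroup G} (hN : N ≤ P) (hK : K ≤ P)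
    (h : K ≤ normalizer (N : Set G)) : K.relIndex N ∣ K.relIndex P := by
  have h1 : K.relIndex (N ⊔ K) = K.relIndex N := by
    refine prod_relIndex le_sup_left fun g hg => ?_
    rw [← SetLike.mem_coe, sup_comm, coe_mul_of_left_le_normalizer_right K N h, set_mul_normalizer_comm _ _ h] at hg
    obtain ⟨n, hn, k, hk, e⟩ := Set.mem_mul.1 hg
    exact ⟨n, hn, k, hk, e.symm⟩
  rw [← h1]
  exact Dvd.intro _ (relIndex_mul_relIndex K (N ⊔ K) P le_sup_right (sup_le hN hK))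

/-- the same for `N` normal in `E`, `E` normal in `P` -/
theorem sub_dvd {P E N K : Subgroup G} (hE : E ≤ P) (hN : N ≤ E) (hK : K ≤ P)
    (h : K ≤ normalizer (E : Set G)) (h' : K ⊓ E ≤ normalizer (N : Set G)) :
    K.relIndex N ∣ K.relIndex P := by
  refine dvd_trans ?_ (relIndex_dvd hE hK h)
  have h1 := relIndex_dvd (P := E) (N := N) (K := K ⊓ E) hN inf_le_right h'
  rw [inf_relIndex_right] at h1
  have h2 : (K ⊓ E).relIndex N = K.relIndex N := by
    rw [← inf_relIndex_right (K ⊓ E), inf_assoc, inf_eq_right.2 hN, inf_relIndex_right]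
  rwa [h2] at h1

/-- a 2-subgroup of odd index is a Sylow group -/
theorem syl_of_not_dvd [Finite G] {T X : Subgroup G} (hT : IsPGroup 2 T) (hTX : T ≤ X)
    (h : ¬ 2 ∣ T.relIndex X) : Syl T X := by
  have : Fact (Nat.Prime 2) := ⟨Nat.prime_two⟩
  refine ⟨hTX, hT, fun Q hQX hQ hTQ => ?_⟩
  have h1 := relIndex_mul_relIndex T Q X hTQ hQX
  have h2 : T.relIndex Q ∣ Nat.card Q := relIndex_dvd_card T Q
  obtain ⟨n, hn⟩ := IsPGroup.iff_card.1 hQ
  rw [hn] at h2
  obtain ⟨m, -, hm⟩ := (Nat.dvd_prime_pow Nat.prime_two).1 h2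
  have h3 : m = 0 := by
    by_contra hm0
    apply h
    rw [← h1, hm]
    exact dvd_mul_of_dvd_left (dvd_pow_self 2 hm0) _
  rw [h3, pow_zero] at hm
  exact le_antisymm (relIndex_eq_one.1 hm) hTQ

end one

/-! ### Partial homomorphisms -/

section two

variable {G : Type u} [Group G] {X : Type v} [Group X]

/-- the image of `K` under the partial homomorphism with graph `R` -/
def im (R : Subgroup (G × X)) (K : Subgroup G) : Subgroup X where
  carrier := {A | ∃ g ∈ K, (g, A) ∈ R}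
  mul_mem' := by
    rintro a b ⟨g, hg, h1⟩ ⟨g', hg', h2⟩
    exact ⟨g * g', mul_mem hg hg', mul_mem h1 h2⟩
  one_mem' := ⟨1, one_mem _, one_mem _⟩
  inv_mem' := by
    rintro a ⟨g, hg, h1⟩
    exact ⟨g⁻¹, inv_mem hg, inv_mem h1⟩

theorem mem_im {R : Subgroup (G × X)} {K : Subgroup G} {A : X} : A ∈ im R K ↔ ∃ g ∈ K, (g, A) ∈ R := Iff.rfl

theorem im_mono {R : Subgroup (G × X)} {K K' : Subgroup G} (h : K ≤ K') : im R K ≤ im R K' := by
  rintro A ⟨g, hg, h1⟩
  exact ⟨g, h hg, h1⟩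

/-- the domain -/
def dom (R : Subgroup (G × X)) : Subgroup G := R.map (MonoidHom.fst G X)

theorem mem_dom {R : Subgroup (G × X)} {g : G} : g ∈ dom R ↔ ∃ A, (g, A) ∈ R := by
  constructor
  · rintro ⟨⟨g', A⟩, h, rfl⟩
    exact ⟨A, h⟩
  · rintro ⟨A, h⟩
    exact ⟨_, h, rfl⟩

theorem im_index_dvd {R : Subgroup (G × X)} (hR : ∀ A : X, ∃ g : G, (g, A) ∈ R) (K : Subgroup G) :
    (im R K).index ∣ K.relIndex (dom R) := by
  let f : R →* X := (MonoidHom.snd G X).comp R.subtype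
  have hf : Function.Surjective f := fun A => by
    obtain ⟨g, hg⟩ := hR A
    exact ⟨⟨(g, A), hg⟩, rfl⟩
  have h1 : im R K = ((K.comap (MonoidHom.fst G X)).subgroupOf R).map f := by
    ext A
    constructor
    · rintro ⟨g, hg, h⟩
      exact ⟨⟨(g, A), h⟩, hg, rfl⟩
    · rintro ⟨⟨⟨g, A'⟩, h⟩, hg, rfl⟩
      exact ⟨g, hg, h⟩
  rw [h1]
  refine (index_map_dvd _ hf).trans (dvd_of_eq ?_)
  exact relIndex_comap K (MonoidHom.fst G X) R

theorem im_relIndex_dvd (R : Subgroup (G × X)) (K₁ K₂ : Subgroup G) (h12 : K₁ ≤ K₂) :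
    (im R K₁).relIndex (im R K₂) ∣ K₁.relIndex (K₂ ⊓ dom R) := by
  let j : G × (im R K₂) →* G × X := (MonoidHom.id G).prodMap (im R K₂).subtype
  let R' : Subgroup (G × (im R K₂)) := R.comap j ⊓ K₂.comap (MonoidHom.fst G (im R K₂))
  have hR' : ∀ A : im R K₂, ∃ g : G, (g, A) ∈ R' := by
    rintro ⟨A, g, hg, h⟩
    exact ⟨g, h, hg⟩
  have h1 := im_index_dvd hR' K₁
  have h2 : im R' K₁ = (im R K₁).subgroupOf (im R K₂) := by
    ext A
    constructor
    · rintro ⟨g, hg, h, -⟩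
      exact ⟨g, hg, h⟩
    · rintro ⟨g, hg, h⟩
      exact ⟨g, hg, h, h12 hg⟩
  have h3 : dom R' = K₂ ⊓ dom R := by
    ext g
    rw [mem_dom, mem_inf, mem_dom]
    constructor
    · rintro ⟨A, h, hg⟩
      exact ⟨hg, _, h⟩
    · rintro ⟨hg, A, h⟩
      exact ⟨⟨A, g, hg, h⟩, h, hg⟩
  rw [h2, h3] at h1
  exact h1

theorem im_isPGroup {R : Subgroup (G × X)} (hf : ∀ A : X, (1, A) ∈ R → A = 1) {p : ℕ} {S : Subgroup G}
    (hS : IsPGroup p S) : IsPGroup p (im R S) := by
  rintro ⟨A, g, hg, h⟩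
  obtain ⟨n, hn⟩ := hS ⟨g, hg⟩
  refine ⟨n, Subtype.ext (hf _ ?_)⟩
  have h1 := pow_mem h (p ^ n)
  have h2 : g ^ p ^ n = 1 := congrArg Subtype.val hn
  rw [Prod.pow_mk, h2] at h1
  exact h1

/-- **The general statement.** `P = S H`, `S` Sylow in `P`, `E` normal in `P`, `dom R` normal in `E`: the image of
`H` has 2-power index, the image of `S ∩ H` is a Sylow group of the image of `H`. -/
theorem main [Finite G] [Finite X] {P S H E : Subgroup G} {R : Subgroup (G × X)} (hS : Syl S P) (hH : H ≤ P)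
    (hSH : ∀ g ∈ P, ∃ s ∈ S, ∃ x ∈ H, g = s * x) (hE : E ≤ P) (hEn : P ≤ normalizer (E : Set G))
    (hR : ∀ A : X, ∃ g : G, (g, A) ∈ R) (hf : ∀ A : X, (1, A) ∈ R → A = 1) (hRE : dom R ≤ E)
    (hRn : E ≤ normalizer (dom R : Set G)) :
    (∃ t, (im R H).index = 2 ^ t) ∧ Syl (im R (S ⊓ H)) (im R H) := by
  have : Fact (Nat.Prime 2) := ⟨Nat.prime_two⟩
  have e1 : H.relIndex P = H.relIndex S := prod_relIndex hS.1 hSH
  have e2 : S.relIndex P = S.relIndex H := prod_relIndex hH fun g hg => by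
    obtain ⟨s, hs, x, hx, e⟩ := hSH g⁻¹ (inv_mem hg)
    refine ⟨x⁻¹, inv_mem hx, s⁻¹, inv_mem hs, ?_⟩
    rw [← mul_inv_rev, ← e, inv_inv]
  constructor
  · have h1 := (im_index_dvd hR H).trans (sub_dvd hE hRE hH (hH.trans hEn) (inf_le_right.trans hRn))
    rw [e1] at h1
    obtain ⟨n, hn⟩ := IsPGroup.iff_card.1 hS.2.1
    have h2 := h1.trans (relIndex_dvd_card H S)
    rw [hn] at h2
    obtain ⟨t, -, ht⟩ := (Nat.dvd_prime_pow Nat.prime_two).1 h2
    exact ⟨t, ht⟩
  · refine syl_of_not_dvd (im_isPGroup hf (hS.2.1.to_le inf_le_left)) (im_mono inf_le_right) fun hd => ?_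
    have h1 := hd.trans (im_relIndex_dvd R (S ⊓ H) H inf_le_right)
    have h2 : (S ⊓ H).relIndex (H ⊓ dom R) ∣ (S ⊓ H).relIndex H := by
      refine sub_dvd (E := H ⊓ E) inf_le_left (inf_le_inf_left H hRE) inf_le_right ?_ ?_
      · intro x hx
        have hxH : x ∈ normalizer (H : Set G) := le_normalizer hx.2
        have hxE : x ∈ normalizer (E : Set G) := hEn (hH hx.2)
        rw [mem_normalizer_iff] at hxH hxE ⊢
        intro y
        rw [mem_inf, mem_inf, hxH y, hxE y]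
      · intro x hx
        have hxH : x ∈ normalizer (H : Set G) := le_normalizer hx.1.2
        have hxE : x ∈ normalizer (dom R : Set G) := hRn hx.2.2
        rw [mem_normalizer_iff] at hxH hxE ⊢
        intro y
        rw [mem_inf, mem_inf, hxH y, hxE y]
    have h3 := h1.trans h2
    rw [inf_relIndex_right, ← e2] at h3
    exact syl_not_dvd hS h3

end two

end Cfsg.Agent.Omega.NO3S.ThmB.End.Idx
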