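import Cfsg.Agent.Omega.NO3S.ThmB.End.Idx
import Cfsg.Agent.Omega.SQ1.FFTwoA

/-!
# THEOREM B, end, (L4): subgroups of 2-power index, symmetric case

`W / D` a sum of even-subset modules of `S_n`, `n = 2^m+1`, `P = S H`, `S` Sylow in `P`: if every subgroup of
2-power index of `S_n` contains `A_n`, then `H` induces all of `A_n` on every summand, and `S ∩ H` contains two
elements which act on the `i`-th summand as different commuting involutions and trivially on the others.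
-/

set_option autoImplicit false

namespace Cfsg.Agent.Omega.NO3S.ThmB.End.SymIdx

open Subgroup Cfsg Cfsg.Agent.ZN Cfsg.Agent.ZN.ChoiceBase Cfsg.Agent.ZN.ChoiceSit
open Cfsg.Agent.Omega.FFThm Cfsg.Agent.Omega.NO3S.ThmB.End.Idx

universe u v

theorem pinv {α : Type*} (f : Equiv.Perm α) (x : α) : f (f⁻¹ x) = x := f.apply_symm_apply x

section klein

variable {X : Type v} [Group X]

/-- the subgroup `{1, a, b, ab}` -/
def kl (a b : X) (ha : a * a = 1) (hb : b * b = 1) (hab : a * b = b * a) : Subgroup X where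
  carrier := {g | g * g = 1 ∧ a * g = g * a ∧ b * g = g * b ∧ g ∈ closure ({a, b} : Set X)}
  mul_mem' := by
    rintro g g' ⟨h1, h2, h3, h4⟩ ⟨h1', h2', h3', h4'⟩
    have hc : g * g' = g' * g := by
      have h5 : closure ({a, b} : Set X) ≤ centralizer ({g'} : Set X) := by
        rw [closure_le]
        rintro x (rfl | rfl)
        · exact mem_centralizer_iff.2 fun y hy => by rw [Set.mem_singleton_iff.1 hy, h2']
        · exact mem_centralizer_iff.2 fun y hy => by rw [Set.mem_singleton_iff.1 hy, h3']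
      exact (mem_centralizer_iff.1 (h5 h4) g' (Set.mem_singleton _)).symm
    refine ⟨?_, ?_, ?_, mul_mem h4 h4'⟩
    · rw [mul_assoc, ← mul_assoc g', ← hc, mul_assoc, h1', mul_one, h1]
    · rw [← mul_assoc, h2, mul_assoc, h2', mul_assoc]
    · rw [← mul_assoc, h3, mul_assoc, h3', mul_assoc]
  one_mem' := ⟨mul_one _, by rw [mul_one, one_mul], by rw [mul_one, one_mul], one_mem _⟩
  inv_mem' := by
    rintro g ⟨h1, h2, h3, h4⟩
    have h5 : g⁻¹ = g := inv_eq_of_mul_eq_one_left h1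
    rw [h5]
    exact ⟨h1, h2, h3, h4⟩

theorem kl_isPGroup (a b : X) (ha : a * a = 1) (hb : b * b = 1) (hab : a * b = b * a) :
    IsPGroup 2 (kl a b ha hb hab) := by
  rintro ⟨g, hg⟩
  refine ⟨1, Subtype.ext ?_⟩
  change g ^ 2 ^ 1 = 1
  rw [pow_one, pow_two]
  exact hg.1

theorem kl_le {a b : X} {ha : a * a = 1} {hb : b * b = 1} {hab : a * b = b * a} {K : Subgroup X}
    (h1 : a ∈ K) (h2 : b ∈ K) : kl a b ha hb hab ≤ K := by
  rintro g ⟨-, -, -, h⟩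
  refine (closure_le K).2 ?_ h
  rintro x (rfl | rfl)
  · exact h1
  · exact h2

theorem left_mem_kl (a b : X) (ha : a * a = 1) (hb : b * b = 1) (hab : a * b = b * a) : a ∈ kl a b ha hb hab :=
  ⟨ha, rfl, hab.symm, subset_closure (by simp)⟩

theorem right_mem_kl (a b : X) (ha : a * a = 1) (hb : b * b = 1) (hab : a * b = b * a) : b ∈ kl a b ha hb hab :=
  ⟨hb, hab, rfl, subset_closure (by simp)⟩

/-- a Klein four group in `A_n`, `n ≥ 4` -/
theorem exists_klein {n : ℕ} (hn : 4 ≤ n) : ∃ a b : Equiv.Perm (Fin n), a ∈ alternatingGroup (Fin n) ∧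
    b ∈ alternatingGroup (Fin n) ∧ a * a = 1 ∧ b * b = 1 ∧ a * b = b * a ∧ a ≠ 1 ∧ b ≠ 1 ∧ a ≠ b := by
  let ι : Fin 4 ↪ Fin n := ⟨Fin.castLE hn, Fin.castLE_injective hn⟩
  let f : Equiv.Perm (Fin 4) →* Equiv.Perm (Fin n) := Equiv.Perm.viaEmbeddingHom ι
  have hf : Function.Injective f := Equiv.Perm.viaEmbeddingHom_injective ι
  let a0 : Equiv.Perm (Fin 4) := Equiv.swap 0 1 * Equiv.swap 2 3
  let b0 : Equiv.Perm (Fin 4) := Equiv.swap 0 2 * Equiv.swap 1 3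
  have hA : ∀ x y : Equiv.Perm (Fin 4), f (x * (y * x * y⁻¹)) ∈ alternatingGroup (Fin n) := fun x y => by
    rw [Equiv.Perm.mem_alternatingGroup]
    simp only [map_mul, map_inv]
    rw [mul_comm (Equiv.Perm.sign (f y)), mul_inv_cancel_right]
    exact Int.units_mul_self _
  have ha : a0 = Equiv.swap 0 1 * ((Equiv.swap 0 2 * Equiv.swap 1 3) * Equiv.swap 0 1 *
      (Equiv.swap 0 2 * Equiv.swap 1 3)⁻¹) := by decide
  have hb : b0 = Equiv.swap 0 2 * ((Equiv.swap 0 1 * Equiv.swap 2 3) * Equiv.swap 0 2 *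
      (Equiv.swap 0 1 * Equiv.swap 2 3)⁻¹) := by decide
  have haa : a0 * a0 = 1 := by decide
  have hbb : b0 * b0 = 1 := by decide
  have hab : a0 * b0 = b0 * a0 := by decide
  have ha1 : a0 ≠ 1 := by decide
  have hb1 : b0 ≠ 1 := by decide
  have hne : a0 ≠ b0 := by decide
  refine ⟨f a0, f b0, ?_, ?_, ?_, ?_, ?_, fun h => ha1 (hf (h.trans (map_one f).symm)),
    fun h => hb1 (hf (h.trans (map_one f).symm)), fun h => hne (hf h)⟩
  · rw [ha]; exact hA _ _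
  · rw [hb]; exact hA _ _
  · rw [← map_mul, haa, map_one]
  · rw [← map_mul, hbb, map_one]
  · rw [← map_mul, hab, map_mul]

end klein


variable {G : Type u} [Group G] {S P W D : Subgroup G} {k m : ℕ}

section acts

variable {e : G → Fin k → Fin (2 ^ m + 1) → ZMod 2}

/-- `g` acts on the coordinates as `τ` and centralises `D` -/
def Acts (e : G → Fin k → Fin (2 ^ m + 1) → ZMod 2) (W D : Subgroup G) (g : G)
    (τ : Fin k → Equiv.Perm (Fin (2 ^ m + 1))) : Prop :=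
  ActsSym e W g 1 τ ∧ ∀ d ∈ D, g * d = d * g

theorem acts_mul (hW : P ≤ normalizer (W : Set G)) {g g' : G} (hg' : g' ∈ P)
    {A B : Fin k → Equiv.Perm (Fin (2 ^ m + 1))} (hA : Acts e W D g A) (hB : Acts e W D g' B) :
    Acts e W D (g * g') (A * B) := by
  refine ⟨fun v hv i x => ?_, fun d hd => ?_⟩
  · have h1 : g * g' * v * (g * g')⁻¹ = g * (g' * v * g'⁻¹) * g⁻¹ := by group
    have h2 : g' * v * g'⁻¹ ∈ W := (mem_normalizer_iff.1 (hW hg') v).1 hv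
    have h3 := hA.1 _ h2 i (B i x)
    have h4 := hB.1 v hv i x
    rw [h1, ← h4]
    exact h3
  · rw [mul_assoc, hB.2 d hd, ← mul_assoc, hA.2 d hd, mul_assoc]

theorem acts_one : Acts e W D 1 1 := by
  refine ⟨fun v _ i x => by simp, fun d _ => by rw [one_mul, mul_one]⟩

theorem acts_inv (hW : P ≤ normalizer (W : Set G)) {g : G} (hg : g ∈ P)
    {A : Fin k → Equiv.Perm (Fin (2 ^ m + 1))} (hA : Acts e W D g A) : Acts e W D g⁻¹ A⁻¹ := by
  refine ⟨fun v hv i x => ?_, fun d hd => ?_⟩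
  · have h2 : g⁻¹ * v * g⁻¹⁻¹ ∈ W := (mem_normalizer_iff.1 (hW (inv_mem hg)) v).1 hv
    have h3 := hA.1 _ h2 i ((A i)⁻¹ x)
    have h4 : g * (g⁻¹ * v * g⁻¹⁻¹) * g⁻¹ = v := by group
    rw [h4, pinv] at h3
    exact h3.symm
  · have h3 := hA.2 d hd
    have h4 := congrArg (fun t => g⁻¹ * t * g⁻¹) h3
    simpa [mul_assoc] using h4.symm

end acts

variable (h : SymK S P W D k m)

include h

theorem acts_uniq (hm : 1 ≤ m) {g : G} {A B : Fin k → Equiv.Perm (Fin (2 ^ m + 1))} (hA : Acts h.e W D g A)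
    (hB : Acts h.e W D g B) : A = B :=
  SQ1.FFTwo.ActsSym.inj hm hA.1 hB.1

/-- the subgroup of the elements which act as elements of `S_n^k` -/
def E (hW : P ≤ normalizer (W : Set G)) : Subgroup G where
  carrier := {g | g ∈ P ∧ ∃ A, Acts h.e W D g A}
  mul_mem' := by
    rintro a b ⟨ha, A, hA⟩ ⟨hb, B, hB⟩
    exact ⟨mul_mem ha hb, _, acts_mul hW hb hA hB⟩
  one_mem' := ⟨one_mem _, _, acts_one⟩
  inv_mem' := by
    rintro a ⟨ha, A, hA⟩
    exact ⟨inv_mem ha, _, acts_inv hW ha hA⟩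

/-- the graph of the action on the `i`-th summand -/
def R (hW : P ≤ normalizer (W : Set G)) (i : Fin k) : Subgroup (G × Equiv.Perm (Fin (2 ^ m + 1))) where
  carrier := {p | p.1 ∈ P ∧ Acts h.e W D p.1 (Pi.mulSingle i p.2)}
  mul_mem' := by
    rintro ⟨a, A⟩ ⟨b, B⟩ ⟨ha, hA⟩ ⟨hb, hB⟩
    refine ⟨mul_mem ha hb, ?_⟩
    have h1 := acts_mul hW hb hA hB
    rwa [← Pi.mulSingle_mul] at h1
  one_mem' := ⟨one_mem _, by
    have h1 : (Pi.mulSingle i (1 : Equiv.Perm (Fin (2 ^ m + 1))) : Fin k → _) = 1 := Pi.mulSingle_one i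
    change Acts h.e W D 1 (Pi.mulSingle i (1 : Equiv.Perm (Fin (2 ^ m + 1))))
    rw [h1]
    exact acts_one⟩
  inv_mem' := by
    rintro ⟨a, A⟩ ⟨ha, hA⟩
    refine ⟨inv_mem ha, ?_⟩
    have h1 := acts_inv hW ha hA
    rwa [← Pi.mulSingle_inv] at h1

theorem P_le_normalizer_E [Finite G] (hW : P ≤ normalizer (W : Set G)) (hD : P ≤ normalizer (D : Set G)) :
    P ≤ normalizer (E h hW : Set G) := by
  intro g hg
  refine mem_normalizer_of_cj_le ?_
  rintro _ ⟨x, ⟨hx, A, hA⟩, rfl⟩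
  change g * x * g⁻¹ ∈ E h hW
  refine ⟨mul_mem (mul_mem hg hx) (inv_mem hg), ?_⟩
  obtain ⟨σ, ρ, hg1⟩ := h.perm g hg
  refine ⟨fun j => ρ (σ⁻¹ j) * A (σ⁻¹ j) * (ρ (σ⁻¹ j))⁻¹, fun v hv j y => ?_, fun d hd => ?_⟩
  · have hw : g⁻¹ * v * g ∈ W := by
      have := (mem_normalizer_iff.1 (hW (inv_mem hg)) v).1 hv
      rwa [inv_inv] at this
    have hu : x * (g⁻¹ * v * g) * x⁻¹ ∈ W := (mem_normalizer_iff.1 (hW hx) _).1 hw
    have h1 := hg1 _ hu (σ⁻¹ j) (A (σ⁻¹ j) ((ρ (σ⁻¹ j))⁻¹ y))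
    have h2 := hA.1 _ hw (σ⁻¹ j) ((ρ (σ⁻¹ j))⁻¹ y)
    have h3 := hg1 _ hw (σ⁻¹ j) ((ρ (σ⁻¹ j))⁻¹ y)
    have e1 : g * (x * (g⁻¹ * v * g) * x⁻¹) * g⁻¹ = g * x * g⁻¹ * v * (g * x * g⁻¹)⁻¹ := by group
    have e2 : g * (g⁻¹ * v * g) * g⁻¹ = v := by group
    rw [e1, pinv] at h1
    rw [e2, pinv, pinv] at h3
    rw [h3]
    exact h1.trans h2
  · have h1 : g⁻¹ * d * g ∈ D := by
      have := (mem_normalizer_iff.1 (hD (inv_mem hg)) d).1 hd
      rwa [inv_inv] at this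
    have h2 := congrArg (fun t => g * t * g⁻¹) (hA.2 _ h1)
    simpa [mul_assoc] using h2

theorem E_le_normalizer_dom [Finite G] (hW : P ≤ normalizer (W : Set G)) (i : Fin k) :
    E h hW ≤ normalizer (dom (R h hW i) : Set G) := by
  rintro g ⟨hg, A, hA⟩
  refine mem_normalizer_of_cj_le ?_
  rintro _ ⟨x, hx, rfl⟩
  obtain ⟨C, hx, hC⟩ := mem_dom.1 hx
  change g * x * g⁻¹ ∈ dom (R h hW i)
  refine mem_dom.2 ⟨A i * C * (A i)⁻¹, mul_mem (mul_mem hg hx) (inv_mem hg), ?_⟩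
  have h1 := acts_mul hW (inv_mem hg) (acts_mul hW hx hA hC) (acts_inv hW hg hA)
  have h2 : A * Pi.mulSingle i C * A⁻¹ = Pi.mulSingle i (A i * C * (A i)⁻¹) := by
    funext j
    by_cases hj : j = i
    · subst hj
      simp
    · simp [Pi.mulSingle_eq_of_ne hj]
  rwa [h2] at h1

/-- **(L4).** -/
theorem main [Finite G] (hm : 2 ≤ m) (hW : P ≤ normalizer (W : Set G)) (hD : P ≤ normalizer (D : Set G))
    (hS : Syl S P) {H : Subgroup G} (hH : H ≤ P) (hSH : ∀ g ∈ P, ∃ s ∈ S, ∃ x ∈ H, g = s * x)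
    (hL : ∀ (K : Subgroup (Equiv.Perm (Fin (2 ^ m + 1)))) (t : ℕ), K.index = 2 ^ t →
      alternatingGroup (Fin (2 ^ m + 1)) ≤ K) (i : Fin k) :
    (∀ A ∈ alternatingGroup (Fin (2 ^ m + 1)), ∃ x ∈ H, Acts h.e W D x (Pi.mulSingle i A)) ∧
      ∃ a b : Equiv.Perm (Fin (2 ^ m + 1)), a * a = 1 ∧ b * b = 1 ∧ a * b = b * a ∧ a ≠ 1 ∧ b ≠ 1 ∧ a ≠ b ∧
        (∃ s ∈ S, s ∈ H ∧ Acts h.e W D s (Pi.mulSingle i a)) ∧
          ∃ s ∈ S, s ∈ H ∧ Acts h.e W D s (Pi.mulSingle i b) := by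
  have hR : ∀ A : Equiv.Perm (Fin (2 ^ m + 1)), ∃ g : G, (g, A) ∈ R h hW i := fun A => by
    obtain ⟨g, hg, hA⟩ := h.lift (Pi.mulSingle i A)
    exact ⟨g, hg, hA⟩
  have hf : ∀ A : Equiv.Perm (Fin (2 ^ m + 1)), (1, A) ∈ R h hW i → A = 1 := fun A hA => by
    have h1 := acts_uniq h (le_trans one_le_two hm) hA.2 acts_one
    have h2 := congrFun h1 i
    rwa [Pi.mulSingle_eq_same, Pi.one_apply] at h2
  have hRE : dom (R h hW i) ≤ E h hW := fun g hg => by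
    obtain ⟨A, hg, hA⟩ := mem_dom.1 hg
    exact ⟨hg, _, hA⟩
  obtain ⟨⟨t, ht⟩, hSyl⟩ := Idx.main hS hH hSH (E := E h hW) (fun g hg => hg.1) (P_le_normalizer_E h hW hD) hR hf
    hRE (E_le_normalizer_dom h hW i)
  have hAlt := hL _ t ht
  constructor
  · intro A hA
    obtain ⟨x, hx, h1⟩ := mem_im.1 (hAlt hA)
    exact ⟨x, hx, h1.2⟩
  · have hn : 4 ≤ 2 ^ m + 1 := by
      have := Nat.pow_le_pow_right (n := 2) Nat.two_pos hm
      omega
    obtain ⟨a, b, ha, hb, haa, hbb, hab, ha1, hb1, hne⟩ := exists_klein hn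
    obtain ⟨T, hT, hQT⟩ := exists_syl (kl_isPGroup a b haa hbb hab) (kl_le (hAlt ha) (hAlt hb))
    obtain ⟨x, -, hx⟩ := syl_conj hT hSyl
    have ha2 : x * a * x⁻¹ ∈ im (R h hW i) (S ⊓ H) := by
      rw [← hx, mem_cj]
      have e1 : x⁻¹ * (x * a * x⁻¹) * x = a := by group
      rw [e1]
      exact hQT (left_mem_kl a b haa hbb hab)
    have hb2 : x * b * x⁻¹ ∈ im (R h hW i) (S ⊓ H) := by
      rw [← hx, mem_cj]
      have e1 : x⁻¹ * (x * b * x⁻¹) * x = b := by group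
      rw [e1]
      exact hQT (right_mem_kl a b haa hbb hab)
    obtain ⟨s, hs, h1⟩ := mem_im.1 ha2
    obtain ⟨s', hs', h2⟩ := mem_im.1 hb2
    refine ⟨x * a * x⁻¹, x * b * x⁻¹, ?_, ?_, ?_, ?_, ?_, ?_, ⟨s, hs.1, hs.2, h1.2⟩, ⟨s', hs'.1, hs'.2, h2.2⟩⟩
    · have e1 : x * a * x⁻¹ * (x * a * x⁻¹) = x * (a * a) * x⁻¹ := by group
      rw [e1, haa, mul_one, mul_inv_cancel]
    · have e1 : x * b * x⁻¹ * (x * b * x⁻¹) = x * (b * b) * x⁻¹ := by group
      rw [e1, hbb, mul_one, mul_inv_cancel]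
    · have e1 : x * a * x⁻¹ * (x * b * x⁻¹) = x * (a * b) * x⁻¹ := by group
      have e2 : x * b * x⁻¹ * (x * a * x⁻¹) = x * (b * a) * x⁻¹ := by group
      rw [e1, e2, hab]
    · intro h3
      exact ha1 (conj_eq_one_iff.1 h3)
    · intro h3
      exact hb1 (conj_eq_one_iff.1 h3)
    · intro h3
      exact hne (mul_left_cancel (mul_right_cancel h3))

end Cfsg.Agent.Omega.NO3S.ThmB.End.SymIdx
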